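import Groth.Agent.CycStrLib.Coord
import Mathlib

/-!
# Coordinates from differentials
-/

set_option autoImplicit false
set_option linter.all false
set_option backward.isDefEq.respectTransparency false

universe u

open CategoryTheory AlgebraicGeometry TopologicalSpace Opposite TensorProduct KaehlerDifferential

noncomputable section

namespace CycNCDLib

section Alg

variable {k T : Type u} [CommRing k] [CommRing T] [Algebra k T] {σ : Type u} [Fintype σ]

/-- the map given by a family of differentials -/
abbrev diffMap (k : Type u) [CommRing k] [Algebra k T] (w : σ → T) : (σ → T) →ₗ[T] Ω[T⁄k] :=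
  Fintype.linearCombination T fun i => D k T (w i)

theorem mapBaseChange_basis (w : σ → T) (i : σ) :
    letI := (MvPolynomial.aeval (R := k) w).toRingHom.toAlgebra
    haveI : IsScalarTower k (MvPolynomial σ k) T := IsScalarTower.of_algebraMap_eq fun x =>
      ((MvPolynomial.aeval w).commutes x).symm
    KaehlerDifferential.mapBaseChange k (MvPolynomial σ k) T
      ((KaehlerDifferential.mvPolynomialBasis k σ).baseChange T i) = D k T (w i) := by
  letI := (MvPolynomial.aeval (R := k) w).toRingHom.toAlgebra
  haveI : IsScalarTower k (MvPolynomial σ k) T := IsScalarTower.of_algebraMap_eq fun x =>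
    ((MvPolynomial.aeval w).commutes x).symm
  rw [Module.Basis.baseChange_apply, KaehlerDifferential.mvPolynomialBasis_apply,
    KaehlerDifferential.mapBaseChange_tmul, one_smul, KaehlerDifferential.map_D]
  show D k T (MvPolynomial.aeval w (MvPolynomial.X i)) = _
  rw [MvPolynomial.aeval_X]

/-- differentials of etale coordinates form a basis -/
theorem bijective_of_etale (w : σ → T) (h : (MvPolynomial.aeval (R := k) w).toRingHom.Etale) :
    Function.Bijective (diffMap k w) := by
  letI := (MvPolynomial.aeval (R := k) w).toRingHom.toAlgebra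
  haveI : IsScalarTower k (MvPolynomial σ k) T := IsScalarTower.of_algebraMap_eq fun x =>
    ((MvPolynomial.aeval w).commutes x).symm
  haveI : Algebra.Etale (MvPolynomial σ k) T := h
  let b := ((KaehlerDifferential.mvPolynomialBasis k σ).baseChange T).map
    (KaehlerDifferential.tensorKaehlerEquivOfFormallyEtale k (MvPolynomial σ k) T)
  have hb : ∀ i, b i = D k T (w i) := fun i => mapBaseChange_basis w i
  have : diffMap k w = b.equivFun.symm.toLinearMap := by
    refine LinearMap.ext fun a => ?_
    simp [diffMap, Fintype.linearCombination_apply, Module.Basis.equivFun_symm_apply, hb]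
  rw [this]
  exact b.equivFun.symm.bijective

/-- functions whose differentials form a basis are etale coordinates -/
theorem etale_of_bijective [Algebra.Smooth k T] (w : σ → T) (h : Function.Bijective (diffMap k w)) :
    (MvPolynomial.aeval (R := k) w).toRingHom.Etale := by
  classical
  letI := (MvPolynomial.aeval (R := k) w).toRingHom.toAlgebra
  haveI : IsScalarTower k (MvPolynomial σ k) T := IsScalarTower.of_algebraMap_eq fun x =>
    ((MvPolynomial.aeval w).commutes x).symm
  let B := MvPolynomial σ k
  let bT : Module.Basis σ T (T ⊗[B] Ω[B⁄k]) := (KaehlerDifferential.mvPolynomialBasis k σ).baseChange T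
  let Φ := KaehlerDifferential.mapBaseChange k B T
  have hΦ : Φ = diffMap k w ∘ₗ bT.equivFun.toLinearMap := bT.ext fun i => by
    show Φ (bT i) = diffMap k w (bT.equivFun (bT i))
    rw [mapBaseChange_basis w i, show bT.equivFun (bT i) = Pi.single i 1 from funext fun j => by simp [Module.Basis.equivFun_self, Pi.single_apply, eq_comm]]
    simp [diffMap, Fintype.linearCombination_apply_single]
  have hΦb : Function.Bijective Φ := by
    rw [hΦ]
    exact h.comp bT.equivFun.bijective
  have hΩ : Subsingleton Ω[T⁄B] := by
    refine subsingleton_of_forall_eq 0 fun y => ?_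
    obtain ⟨x, rfl⟩ := KaehlerDifferential.map_surjective k B T y
    exact (KaehlerDifferential.exact_mapBaseChange_map k B T x).2 (hΦb.2 x)
  have hH : Subsingleton (Algebra.H1Cotangent B T) := by
    refine subsingleton_of_forall_eq 0 fun y => ?_
    have h0 : Algebra.H1Cotangent.δ k B T y = 0 := hΦb.1 (by
      rw [map_zero]; exact (Algebra.H1Cotangent.exact_δ_mapBaseChange (R := k) (S := B) (T := T)).apply_apply_eq_zero y)
    obtain ⟨x, rfl⟩ := (Algebra.H1Cotangent.exact_map_δ (R := k) (S := B) (T := T) y).1 h0
    rw [Subsingleton.elim x 0, map_zero]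
  haveI : Algebra.FormallyEtale B T := ⟨hΩ, hH⟩
  haveI : Algebra.FinitePresentation B T :=
    Algebra.FinitePresentation.of_restrict_scalars_finitePresentation k B T
  exact (RingHom.etale_algebraMap (R := B) (S := T)).2 ⟨inferInstance, inferInstance⟩

/-- spanning differentials are independent once they are so after inverting a regular element -/
theorem injective_of_span {T' : Type u} [CommRing T'] [Algebra k T'] [Algebra T T'] [IsScalarTower k T T']
    (f : T) [IsLocalization.Away f T'] (hf : ∀ a : T, f * a = 0 → a = 0) (w : σ → T)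
    (hs : Function.Surjective (diffMap k w)) (v : σ → T') (hv : Function.Bijective (diffMap k v)) :
    Function.Injective (diffMap k w) := by
  let ι : Ω[T⁄k] →ₗ[T] Ω[T'⁄k] := KaehlerDifferential.map k k T T'
  haveI : IsLocalizedModule (Submonoid.powers f) ι :=
    KaehlerDifferential.isLocalizedModule_map k T T' (Submonoid.powers f)
  let w' : σ → T' := fun i => algebraMap T T' (w i)
  have hι : ∀ a : σ → T, ι (diffMap k w a) = diffMap k w' (fun i => algebraMap T T' (a i)) := fun a => by
    simp [diffMap, w', Fintype.linearCombination_apply, map_sum, ι, algebraMap_smul]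
  have hs' : Function.Surjective (diffMap k w') := fun y => by
    obtain ⟨⟨x, s⟩, hx⟩ := IsLocalizedModule.surj (Submonoid.powers f) ι y
    obtain ⟨a, rfl⟩ := hs x
    obtain ⟨u, hu⟩ := IsLocalization.map_units T' s
    refine ⟨(↑u⁻¹ : T') • fun i => algebraMap T T' (a i), ?_⟩
    rw [map_smul, ← hι, show ι (diffMap k w a) = (s : T) • y from hx.symm, ← algebraMap_smul T' (s : T) y, ← hu,
      smul_smul, Units.inv_mul, one_smul]
  let e := LinearEquiv.ofBijective (diffMap k v) hv
  have hi : Function.Injective (e.symm.toLinearMap ∘ₗ diffMap k w') :=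
    OrzechProperty.injective_of_surjective_endomorphism _ (e.symm.surjective.comp hs')
  rw [injective_iff_map_eq_zero]
  intro a ha
  have h0 : (fun i => algebraMap T T' (a i)) = 0 := hi (by
    rw [map_zero, LinearMap.comp_apply, ← hι, ha, map_zero, map_zero])
  funext i
  obtain ⟨⟨_, m, rfl⟩, hm⟩ := (IsLocalization.map_eq_zero_iff (Submonoid.powers f) T' (a i)).1 (congrFun h0 i)
  have hpow : ∀ (n : ℕ) (b : T), f ^ n * b = 0 → b = 0 := fun n => by
    induction n with
    | zero => intro b hb; simpa using hb
    | succ n ih => intro b hb; exact hf _ (ih _ (by rw [← mul_assoc, ← pow_succ]; exact hb))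
  exact hpow m (a i) hm

end Alg

section Geom

variable {k : Type u} [Field k] {Y : Scheme.{u}} {σ : Type u}

/-- the scalars on sections -/
abbrev sAlg (g : Y ⟶ Spec (CommRingCat.of k)) (V : Y.Opens) : Algebra k Γ(Y, V) :=
  (((Scheme.ΓSpecIso (CommRingCat.of k)).inv ≫ g.appLE ⊤ V le_top).hom).toAlgebra

/-- coordinates on an affine open as a ring map -/
theorem etale_homOfVector_iff (g : Y ⟶ Spec (CommRingCat.of k)) (V : Y.Opens) (hV : IsAffineOpen V)
    (w : σ → Γ(Y, V)) :
    letI := sAlg g V
    Etale (AffineSpace.homOfVector (V.ι ≫ g) fun i => V.topIso.inv (w i)) ↔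
      (MvPolynomial.aeval (R := k) w).toRingHom.Etale := by
  letI := sAlg g V
  haveI : IsAffine (V : Scheme) := hV
  let h := AffineSpace.homOfVector (V.ι ≫ g) fun i => V.topIso.inv (w i)
  let G := h ≫ (AffineSpace.SpecIso σ (CommRingCat.of k)).hom
  show Etale h ↔ _
  rw [← MorphismProperty.cancel_right_of_respectsIso (P := @Etale) h (AffineSpace.SpecIso σ (CommRingCat.of k)).hom,
    HasRingHomProperty.iff_of_isAffine (P := @Etale)]
  let φ := ((Scheme.ΓSpecIso (CommRingCat.of (MvPolynomial σ k))).inv ≫ G.appTop ≫ V.topIso.hom).hom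
  have hS : ∀ p : MvPolynomial σ k, (AffineSpace.SpecIso σ (CommRingCat.of k)).hom.appTop
      ((Scheme.ΓSpecIso (CommRingCat.of (MvPolynomial σ k))).inv p) =
      MvPolynomial.eval₂ ((Scheme.ΓSpecIso (CommRingCat.of k)).inv ≫
        (AffineSpace σ (Spec (CommRingCat.of k)) ↘ Spec (CommRingCat.of k)).appTop).hom
        (AffineSpace.coord (Spec (CommRingCat.of k))) p := fun p => by
    refine (ConcreteCategory.congr_hom (AffineSpace.SpecIso_hom_appTop (n := σ) (CommRingCat.of k)) _).trans ?_
    rw [CommRingCat.comp_apply, Iso.inv_hom_id_apply]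
    rfl
  have e : φ = (MvPolynomial.aeval (R := k) w).toRingHom := by
    refine MvPolynomial.ringHom_ext (fun a => ?_) (fun i => ?_)
    · show φ (MvPolynomial.C a) = MvPolynomial.aeval w (MvPolynomial.C a)
      rw [MvPolynomial.aeval_C]
      simp only [φ, G, Scheme.Hom.comp_appTop, AffineSpace.SpecIso_hom_appTop, Category.assoc,
        Iso.inv_hom_id_assoc, CommRingCat.hom_comp, RingHom.comp_apply, CommRingCat.hom_ofHom, MvPolynomial.coe_eval₂Hom]
      erw [hS, MvPolynomial.eval₂_C]
      show V.topIso.hom (h.appTop ((AffineSpace σ (Spec (CommRingCat.of k)) ↘ Spec (CommRingCat.of k)).appTop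
        ((Scheme.ΓSpecIso (CommRingCat.of k)).inv a))) = _
      refine (congrArg V.topIso.hom (ConcreteCategory.congr_hom (Scheme.Hom.comp_appTop h
        (AffineSpace σ (Spec (CommRingCat.of k)) ↘ Spec (CommRingCat.of k))).symm _)).trans ?_
      erw [AffineSpace.homOfVector_over]
      show (((Scheme.ΓSpecIso (CommRingCat.of k)).inv ≫ (V.ι ≫ g).appTop ≫ V.topIso.hom).hom) a = _
      rw [RingHom.algebraMap_toAlgebra, Scheme.Hom.comp_appTop, Scheme.Opens.ι_appTop]
      simp only [Category.assoc, CommRingCat.comp_apply, Scheme.Hom.appLE]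
      show (Y.presheaf.map _ ≫ Y.presheaf.map _) _ = Y.presheaf.map _ _
      rw [← Functor.map_comp]
      rfl
    · show φ (MvPolynomial.X i) = MvPolynomial.aeval w (MvPolynomial.X i)
      rw [MvPolynomial.aeval_X]
      simp only [φ, G, Scheme.Hom.comp_appTop, AffineSpace.SpecIso_hom_appTop, Category.assoc,
        Iso.inv_hom_id_assoc, CommRingCat.hom_comp, RingHom.comp_apply, CommRingCat.hom_ofHom, MvPolynomial.coe_eval₂Hom]
      erw [hS, MvPolynomial.eval₂_X, AffineSpace.homOfVector_appTop_coord, Iso.inv_hom_id_apply]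
  rw [← e]
  simp only [φ, CommRingCat.hom_comp]
  constructor
  · intro h1
    exact RingHom.Etale.respectsIso.2 _ (Scheme.ΓSpecIso _).symm.commRingCatIsoToRingEquiv
      (RingHom.Etale.respectsIso.1 G.appTop.hom V.topIso.commRingCatIsoToRingEquiv h1)
  · intro h1
    have h2 := RingHom.Etale.respectsIso.2 _ (Scheme.ΓSpecIso (CommRingCat.of (MvPolynomial σ k))).commRingCatIsoToRingEquiv
      (RingHom.Etale.respectsIso.1 _ V.topIso.symm.commRingCatIsoToRingEquiv h1)
    refine (congrArg RingHom.Etale (RingHom.ext fun a => ?_)).mp h2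
    show V.topIso.inv (V.topIso.hom (G.appTop ((Scheme.ΓSpecIso (CommRingCat.of (MvPolynomial σ k))).inv
      ((Scheme.ΓSpecIso (CommRingCat.of (MvPolynomial σ k))).hom a)))) = _
    rw [Iso.hom_inv_id_apply, Iso.hom_inv_id_apply]

end Geom

end CycNCDLib
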