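import Groth.Agent.CycNCDLib.Rad
import Groth.Agent.CycStrLib.Cover
import Groth.Agent.CycStrLib.Chart
import Groth.Agent.CycStrLib.Alg

/-!
# The normalised cyclic cover over an affine open with one branch component
-/

set_option autoImplicit false
set_option backward.isDefEq.respectTransparency false
set_option linter.style.haveILetI false
set_option maxHeartbeats 1000000

universe u

open CategoryTheory CategoryTheory.Limits AlgebraicGeometry TopologicalSpace Opposite Polynomial CycEtaleLib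
open RichLib.CycCover

noncomputable section

namespace CycNCDLib

open CycStrLib

variable {X Y : Scheme.{u}}

/-- The functions of the cover over such an affine open form a regular ring, in which the reduced branch divisor is
principal with the expected multiplicity. -/
theorem preimage_props {k : Type u} [Field k] [IsAlgClosed k] (f : X ⟶ Spec (CommRingCat.of k)) [Smooth f] [IsIntegral X]
    (L : X.Modules) (N : ℕ) (hN : 0 < N) (hNk : (N : k) ≠ 0) (I : X.IdealSheafData)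
    (s : Coh.structureModule X ⟶ CohB1.tensorPow L N) (hs : CycCov.IsZeroDiv (CohB1.tensorPow L N) s I)
    (π : Y ⟶ X) (R : CycCov.Root L N s π) (hR : CycCov.IsCover R)
    (U : X.Opens) (hU : IsAffineOpen U) [Nonempty U] (e : Γ(L, U)) (hge : AmpleLib.GenOn L e)
    (f₁ : Γ(X, U)) (hf₁ : f₁ ≠ 0) (α₁ : ℕ) (hI : I.ideal ⟨U, hU⟩ = Ideal.span {f₁ ^ α₁})
    (hreg : IsRegularRing (Γ(X, U) ⧸ Ideal.span ({f₁} : Set Γ(X, U)))) :
    IsRegularRing Γ(Y, π ⁻¹ᵁ U) ∧ ∃ q : Γ(Y, π ⁻¹ᵁ U),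
      (Ideal.span ({q} : Set Γ(Y, π ⁻¹ᵁ U))).radical = Ideal.span {q} ∧
      Ideal.span ({q} : Set Γ(Y, π ⁻¹ᵁ U)) ^ (N / Nat.gcd N α₁) = Ideal.span {π.app U f₁} ∧
      ∃ (w : Γ(Y, π ⁻¹ᵁ U)) (b : Γ(X, U)), IsUnit w ∧ w ^ Nat.gcd N α₁ = π.app U b ∧
        ∀ z : Γ(Y, π ⁻¹ᵁ U), ∃ g : Γ(X, U)[X], q ∣ z - Polynomial.eval₂ (π.app U).hom w g := by
  classical
  haveI := isReduced_cover hR
  haveI : IsFinite π := hR.1
  let alg : Algebra k Γ(X, U) := (((Scheme.ΓSpecIso (CommRingCat.of k)).inv ≫ f.appLE ⊤ U le_top).hom).toAlgebra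
  haveI : Algebra.Smooth k Γ(X, U) := by
    rw [← RingHom.smooth_algebraMap]
    have h := HasRingHomProperty.appLE @Smooth f inferInstance ⟨⊤, isAffineOpen_top _⟩ ⟨U, hU⟩ le_top
    exact RingHom.Smooth.comp (RingHom.Smooth.of_bijective
      (ConcreteCategory.bijective_of_isIso (Scheme.ΓSpecIso (CommRingCat.of k)).inv)) h
  haveI : IsRegularRing Γ(X, U) := CohenLib.isRegularRing_of_smooth k Γ(X, U)
  haveI : IsNoetherianRing Γ(X, U) := Algebra.FiniteType.isNoetherianRing k _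
  -- the equation
  have hGenN := genN_bijective hge N
  obtain ⟨c, hc⟩ := hGenN.2 (SecTwist.val s U)
  obtain ⟨v, hv⟩ : ∃ v : Γ(X, U)ˣ, (v : Γ(X, U)) * f₁ ^ α₁ = c := by
    have h := hs ⟨U, hU⟩
    rw [hI] at h
    have h1 : f₁ ^ α₁ ∣ c := by
      have hmem : SecTwist.val s U ∈ Ideal.span {f₁ ^ α₁} •
          (⊤ : Submodule Γ(X, U) ((CohB1.tensorPow L N).val.obj (op U))) :=
        h ▸ Submodule.mem_span_singleton_self _
      rw [Submodule.ideal_span_singleton_smul] at hmem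
      obtain ⟨m, -, hm⟩ := Submodule.mem_smul_pointwise_iff_exists _ _ _ |>.1 hmem
      obtain ⟨m', hm'⟩ := hGenN.2 m
      refine ⟨m', hGenN.1 (hc.trans ?_)⟩
      rw [← hm, ← hm']
      exact (mul_smul _ _ _).symm
    have h2 : c ∣ f₁ ^ α₁ := by
      obtain ⟨b, hb⟩ := Submodule.mem_span_singleton.1
        ((h ▸ Submodule.smul_mem_smul (Ideal.mem_span_singleton_self _) Submodule.mem_top :
          f₁ ^ α₁ • (show (CohB1.tensorPow L N).val.obj (op U) from CycCov.lpow L U e N) ∈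
            Submodule.span Γ(X, U) {SecTwist.val s U}))
      refine ⟨b, (hGenN.1 ?_).symm⟩
      show (c * b) • (show (CohB1.tensorPow L N).val.obj (op U) from CycCov.lpow L U e N) = _
      rw [mul_comm, mul_smul]
      exact (congrArg (b • ·) hc).trans hb
    obtain ⟨w, hw⟩ := associated_of_dvd_dvd h1 h2
    exact ⟨w, by rw [mul_comm]; exact hw⟩
  subst hv
  -- the open where the chart is bijective
  let res : Γ(X, U) →+* Γ(X, X.basicOpen f₁) := (X.presheaf.map (homOfLE (X.basicOpen_le f₁)).op).hom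
  haveI : Nonempty (X.basicOpen f₁) := by
    obtain ⟨y, hy⟩ : (X.basicOpen f₁ : Set X).Nonempty :=
      (Opens.ne_bot_iff_nonempty _).1 fun h => hf₁ ((basicOpen_eq_bot_iff f₁).1 h)
    exact ⟨⟨y, hy⟩⟩
  have hres : Function.Injective res := map_injective_of_isIntegral X (homOfLE (X.basicOpen_le f₁))
  haveI := hU.isLocalization_basicOpen f₁
  have hge' := hge.res (X.basicOpen_le f₁)
  let e' : L.val.obj (op (X.basicOpen f₁)) := L.val.map (homOfLE (X.basicOpen_le f₁)).op e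
  have hc' : SecTwist.val s (X.basicOpen f₁) = res ((v : Γ(X, U)) * f₁ ^ α₁) • CycCov.lpow L (X.basicOpen f₁) e' N := by
    have h := congrArg (AmpleLib.res (CohB1.tensorPow L N) (X.basicOpen_le f₁)) hc
    rw [show SecTwist.val s (X.basicOpen f₁) = AmpleLib.res (CohB1.tensorPow L N) (X.basicOpen_le f₁)
      (SecTwist.val s U) from (SecTwist.map_val s (homOfLE (X.basicOpen_le f₁))).symm, ← h]
    rw [lpow_eq_pS, lpow_eq_pS]
    erw [AmpleLib.res_smul]
    congr 1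
    exact AmpleThLib.pS_res _ _ _
  have hresu : IsUnit (res f₁) := IsLocalization.map_units (Γ(X, X.basicOpen f₁)) (⟨f₁, 1, pow_one f₁⟩ : Submonoid.powers f₁)
  have htop' : I.ideal ⟨X.basicOpen f₁, hU.basicOpen f₁⟩ = ⊤ := by
    rw [← I.map_ideal' (U := ⟨X.basicOpen f₁, hU.basicOpen f₁⟩) (V := ⟨U, hU⟩) (homOfLE (X.basicOpen_le f₁)).op, hI,
      Ideal.map_span, Set.image_singleton, map_pow]
    exact Ideal.span_singleton_eq_top.2 (hresu.pow _)
  have hbij' := chart_bijective f L N hN hNk I s hs π R hR (X.basicOpen f₁) (hU.basicOpen f₁) e' hge'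
    (res ((v : Γ(X, U)) * f₁ ^ α₁)) hc' htop'
  let ψ' := CycCov.chart R ⟨X.basicOpen f₁, hU.basicOpen f₁⟩ e' (isGen_of_genOn hge') (res ((v : Γ(X, U)) * f₁ ^ α₁)) hc'
  let ψ := CycCov.chart R ⟨U, hU⟩ e (isGen_of_genOn hge) ((v : Γ(X, U)) * f₁ ^ α₁) hc.symm
  let p' : Γ(X, X.basicOpen f₁)[X] := Polynomial.X ^ N - Polynomial.C (res ((v : Γ(X, U)) * f₁ ^ α₁))
  have hpp' : (pp N α₁ v f₁).map res = p' := by simp [p']
  let ρ : AdjoinRoot (pp N α₁ v f₁) →+* AdjoinRoot p' :=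
    AdjoinRoot.lift ((AdjoinRoot.of p').comp res) (AdjoinRoot.root p') (by
      rw [← Polynomial.eval₂_map, hpp']
      exact AdjoinRoot.eval₂_root p')
  have hρmk : ∀ h : Γ(X, U)[X], ρ (AdjoinRoot.mk (pp N α₁ v f₁) h) = AdjoinRoot.mk p' (h.map res) := fun h => by
    rw [AdjoinRoot.lift_mk, ← Polynomial.eval₂_map, ← AdjoinRoot.aeval_eq, aeval_def, AdjoinRoot.algebraMap_eq]
  have hρ : Function.Injective ρ := (injective_iff_map_eq_zero ρ).mpr fun z hz => by
    obtain ⟨h, rfl⟩ := AdjoinRoot.mk_surjective z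
    rw [hρmk, AdjoinRoot.mk_eq_zero, ← hpp'] at hz
    rw [AdjoinRoot.mk_eq_zero]
    exact (Polynomial.map_dvd_map res hres (monic_pp N α₁ v f₁ hN)).mp hz
  let σ : Γ(Y, π ⁻¹ᵁ U) →+* Γ(Y, π ⁻¹ᵁ X.basicOpen f₁) :=
    (Y.presheaf.map (homOfLE (π.preimage_mono (X.basicOpen_le f₁))).op).hom
  have hσ0 : ∀ a : Γ(X, U), σ (π.app U a) = π.app (X.basicOpen f₁) (res a) := fun a =>
    (ConcreteCategory.congr_hom (π.naturality (homOfLE (X.basicOpen_le f₁)).op) a).symm
  have hψof : ∀ a : Γ(X, U), ψ (AdjoinRoot.of (pp N α₁ v f₁) a) = π.app U a := fun a => AdjoinRoot.lift_of _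
  have hcomm : ∀ z, σ (ψ z) = ψ' (ρ z) := by
    intro z
    have hh : σ.comp ψ = ψ'.comp ρ := by
      refine AdjoinRoot.ringHom_ext (RingHom.ext fun a => ?_) ?_
      · have h2 : ρ (AdjoinRoot.of _ a) = AdjoinRoot.of p' (res a) := AdjoinRoot.lift_of _
        have h3 : ψ' (AdjoinRoot.of p' (res a)) = π.app (X.basicOpen f₁) (res a) := AdjoinRoot.lift_of _
        show σ (ψ (AdjoinRoot.of _ a)) = ψ' (ρ (AdjoinRoot.of _ a))
        rw [hψof, h2, h3]
        exact hσ0 a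
      · have h1 : ψ (AdjoinRoot.root _) = R.t ⟨U, hU⟩ e (isGen_of_genOn hge) := AdjoinRoot.lift_root _
        have h2 : ρ (AdjoinRoot.root _) = AdjoinRoot.root p' := AdjoinRoot.lift_root _
        have h3 : ψ' (AdjoinRoot.root p') = R.t ⟨X.basicOpen f₁, hU.basicOpen f₁⟩ e' (isGen_of_genOn hge') :=
          AdjoinRoot.lift_root _
        show σ (ψ (AdjoinRoot.root _)) = ψ' (ρ (AdjoinRoot.root _))
        rw [h1, h2, h3]
        exact R.t_res ⟨U, hU⟩ ⟨X.basicOpen f₁, hU.basicOpen f₁⟩ (X.basicOpen_le f₁) e (isGen_of_genOn hge)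
          (isGen_of_genOn hge')
    exact congrArg (fun φ => φ z) hh
  have hρf : ρ (algebraMap _ _ f₁) = AdjoinRoot.of p' (res f₁) := by
    rw [AdjoinRoot.algebraMap_eq]; exact AdjoinRoot.lift_of _
  have hsurj : ∀ z : AdjoinRoot p', ∃ (n : ℕ) (a : AdjoinRoot (pp N α₁ v f₁)), ρ a = ρ (algebraMap _ _ f₁) ^ n * z := by
    intro z
    obtain ⟨h, rfl⟩ := AdjoinRoot.mk_surjective z
    induction h using Polynomial.induction_on' with
    | add h₁ h₂ ih₁ ih₂ =>
      obtain ⟨n₁, a₁, ha₁⟩ := ih₁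
      obtain ⟨n₂, a₂, ha₂⟩ := ih₂
      refine ⟨n₁ + n₂, algebraMap _ _ f₁ ^ n₂ * a₁ + algebraMap _ _ f₁ ^ n₁ * a₂, ?_⟩
      rw [map_add ρ, map_mul, map_mul, ha₁, ha₂, map_pow, map_pow, map_add (AdjoinRoot.mk p'), pow_add]
      ring
    | monomial i a =>
      obtain ⟨⟨b, ⟨_, n, rfl⟩⟩, hb⟩ := IsLocalization.surj (Submonoid.powers f₁) a
      refine ⟨n, AdjoinRoot.mk _ (monomial i b), ?_⟩
      rw [hρmk, Polynomial.map_monomial, hρf, ← map_pow, ← AdjoinRoot.mk_C, ← map_mul, C_mul_monomial]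
      congr 2
      rw [mul_comm, ← map_pow]
      exact hb.symm
  -- the comparison with the localised algebra
  have hψ'u : IsUnit ((σ.comp ψ) (algebraMap _ _ f₁)) := by
    rw [RingHom.comp_apply, AdjoinRoot.algebraMap_eq, hψof, hσ0]
    exact hresu.map _
  let χ : KK N α₁ v f₁ →+* Γ(Y, π ⁻¹ᵁ X.basicOpen f₁) :=
    IsLocalization.Away.lift (S := KK N α₁ v f₁) (algebraMap Γ(X, U) (AdjoinRoot (pp N α₁ v f₁)) f₁) hψ'u
  have hχ : ∀ a, χ (algebraMap _ _ a) = ψ' (ρ a) := fun a =>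
    (IsLocalization.Away.lift_eq _ hψ'u a).trans (hcomm a)
  have hχbij : Function.Bijective χ := by
    constructor
    · rw [injective_iff_map_eq_zero]
      intro x hx
      obtain ⟨n, a, ha⟩ : ∃ (n : ℕ) (a : AdjoinRoot (pp N α₁ v f₁)),
          x * algebraMap _ (KK N α₁ v f₁) (algebraMap _ _ f₁ ^ n) = algebraMap _ _ a := by
        obtain ⟨⟨a, ⟨_, n, rfl⟩⟩, ha⟩ := IsLocalization.surj
          (Submonoid.powers (algebraMap Γ(X, U) (AdjoinRoot (pp N α₁ v f₁)) f₁)) x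
        exact ⟨n, a, ha⟩
      have h0 : ψ' (ρ a) = 0 := by rw [← hχ, ← ha, map_mul, hx, zero_mul]
      rw [(injective_iff_map_eq_zero ρ).1 hρ a ((injective_iff_map_eq_zero ψ').1 hbij'.1 _ h0), map_zero] at ha
      refine IsUnit.mul_left_eq_zero ?_ |>.1 ha
      exact IsLocalization.map_units (KK N α₁ v f₁)
        (⟨_, n, rfl⟩ : Submonoid.powers (algebraMap Γ(X, U) (AdjoinRoot (pp N α₁ v f₁)) f₁))
    · intro y
      obtain ⟨z, rfl⟩ := hbij'.2 y
      obtain ⟨n, a, ha⟩ := hsurj z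
      refine ⟨algebraMap _ _ a * gg N α₁ v f₁ ^ n, ?_⟩
      rw [map_mul, hχ, ha, map_mul, map_pow, mul_right_comm, map_pow, ← hχ, ← mul_pow, ← map_mul,
        IsLocalization.Away.mul_invSelf, map_one, one_pow, one_mul]
  let χe : KK N α₁ v f₁ ≃+* Γ(Y, π ⁻¹ᵁ X.basicOpen f₁) := RingEquiv.ofBijective χ hχbij
  let Φ : Γ(Y, π ⁻¹ᵁ U) →+* KK N α₁ v f₁ := χe.symm.toRingHom.comp σ
  have hΦ : ∀ b, Φ (π.app U b) = algebraMap Γ(X, U) (KK N α₁ v f₁) b := fun b => by
    show χe.symm (σ (π.app U b)) = _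
    rw [RingEquiv.symm_apply_eq]
    show _ = χ _
    rw [IsScalarTower.algebraMap_apply Γ(X, U) (AdjoinRoot (pp N α₁ v f₁)) (KK N α₁ v f₁), hχ,
      AdjoinRoot.algebraMap_eq, ← hcomm, hψof]
  -- the normal algebra
  let A : Subalgebra Γ(X, U) (KK N α₁ v f₁) := Algebra.adjoin Γ(X, U) (Set.range (Egen N α₁ v f₁))
  obtain ⟨hAfin, hAic, hAreg⟩ := RichLib.CycCover.main N α₁ v f₁ hf₁ hN k
    (fun P _ => IsRegularRing.isRegularLocalRing_localization P) (IsUnit.mk0 _ hNk)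
    (fun P _ => IsRegularRing.isRegularLocalRing_localization P) A rfl
  haveI : Module.Finite Γ(X, U) A := hAfin
  have hint : ∀ g, IsIntegral Γ(X, U) (Φ g) := fun g => by
    obtain ⟨q, hq, hq0⟩ := π.isIntegral_app U hU g
    refine ⟨q, hq, ?_⟩
    have h : Φ.comp (π.app U).hom = algebraMap Γ(X, U) (KK N α₁ v f₁) := RingHom.ext hΦ
    rw [← h, ← Polynomial.hom_eval₂, hq0, map_zero]
  have hΦA : ∀ g, Φ g ∈ A := fun g => by
    haveI := hAic
    obtain ⟨y, hy⟩ := (IsIntegralClosure.isIntegral_iff (A := A)).1 ((hint g).tower_top (A := AdjoinRoot (pp N α₁ v f₁)))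
    rw [← hy]; exact y.2
  let φ : Γ(Y, π ⁻¹ᵁ U) →+* A := Φ.codRestrict A.toSubring hΦA
  have hφ : ∀ b, φ (π.app U b) = algebraMap Γ(X, U) A b := fun b => Subtype.ext (hΦ b)
  have hfreg := app_regular hN hR U hU e hge _ hc.symm f₁ hf₁
  have hpU : IsAffineOpen (π ⁻¹ᵁ U) := hU.preimage π
  have hD : Y.basicOpen (π.app U f₁) = π ⁻¹ᵁ X.basicOpen f₁ := (Scheme.preimage_basicOpen π f₁).symm
  haveI := hpU.isLocalization_basicOpen (π.app U f₁)
  let ε : Γ(Y, Y.basicOpen (π.app U f₁)) →+* Γ(Y, π ⁻¹ᵁ X.basicOpen f₁) := (Y.presheaf.map (eqToHom hD.symm).op).hom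
  have hε : Function.Bijective ε := ConcreteCategory.bijective_of_isIso _
  have hεσ : ∀ g, ε (algebraMap Γ(Y, π ⁻¹ᵁ U) Γ(Y, Y.basicOpen (π.app U f₁)) g) = σ g := fun g => by
    show (Y.presheaf.map _ ≫ Y.presheaf.map _) g = _
    rw [← Functor.map_comp]
    rfl
  have hσinj : Function.Injective σ := (injective_iff_map_eq_zero σ).2 fun g hg => by
    rw [← hεσ, map_eq_zero_iff ε hε.1] at hg
    obtain ⟨⟨_, n, rfl⟩, hn⟩ := (IsLocalization.map_eq_zero_iff (Submonoid.powers (π.app U f₁)) _ g).mp hg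
    have hpow : ∀ (m : ℕ) (b : Γ(Y, π ⁻¹ᵁ U)), (π.app U f₁) ^ m * b = 0 → b = 0 := fun m => by
      induction m with
      | zero => intro b hb; simpa using hb
      | succ m ih => intro b hb; exact hfreg _ (ih _ (by rw [← mul_assoc, ← pow_succ]; exact hb))
    exact hpow n g hn
  have hbij : Function.Bijective φ :=
    bijective_of_localization φ χe.symm.toRingHom σ A.val.toRingHom (fun _ => rfl) (π.app U f₁)
      χe.symm.bijective hσinj
      (fun y => by
        obtain ⟨y, rfl⟩ := hε.2 y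
        obtain ⟨⟨a, ⟨_, n, rfl⟩⟩, ha⟩ := IsLocalization.surj (Submonoid.powers (π.app U f₁)) y
        refine ⟨n, a, ?_⟩
        rw [← hεσ, ← hεσ, ← ha, map_mul, map_pow, map_pow, mul_comm])
      (fun b hb => by
        rw [hφ] at hb
        refine Subtype.ext ?_
        have h1 := congrArg (Subtype.val) hb
        have h2 : IsUnit (algebraMap Γ(X, U) (KK N α₁ v f₁) f₁) := IsUnit.of_mul_eq_one _ (FF_mul_gg N α₁ v f₁)
        exact h2.mul_right_eq_zero.1 h1)
      (fun b hb => Subtype.ext hb)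
      (fun a => by
        obtain ⟨q, hq, hq0⟩ := Algebra.IsIntegral.isIntegral (R := Γ(X, U)) a
        refine ⟨q.map (π.app U).hom, hq.map _, ?_⟩
        rw [eval₂_map, show φ.comp (π.app U).hom = algebraMap Γ(X, U) A from RingHom.ext hφ]
        exact hq0)
      fun P hP => by
        let y : PrimeSpectrum Γ(Y, π ⁻¹ᵁ U) := ⟨P, hP.isPrime⟩
        have hy : hpU.fromSpec y ∈ π ⁻¹ᵁ U := by
          show hpU.fromSpec y ∈ (π ⁻¹ᵁ U : Set Y)
          rw [← hpU.range_fromSpec]; exact ⟨y, rfl⟩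
        letI := (Y.presheaf.germ (π ⁻¹ᵁ U) (hpU.fromSpec y) hy).hom.toAlgebra
        haveI : IsLocalization.AtPrime (Y.presheaf.stalk (hpU.fromSpec y)) P := hpU.isLocalization_stalk' y hy
        let E := (IsLocalization.algEquiv P.primeCompl (Y.presheaf.stalk (hpU.fromSpec y)) (Localization.AtPrime P)).toRingEquiv
        obtain ⟨h1, h2⟩ := hR.2.1 (hpU.fromSpec y)
        exact ⟨E.symm.toMulEquiv.isDomain _, IsIntegrallyClosed.of_equiv E⟩
  let Θ : Γ(Y, π ⁻¹ᵁ U) ≃+* A := RingEquiv.ofBijective φ hbij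
  haveI : IsNoetherianRing A := isNoetherian_of_tower Γ(X, U) (inferInstance : IsNoetherian Γ(X, U) A)
  haveI : IsRegularRing A := isRegularRing_iff.2 hAreg
  refine ⟨IsRegularRing.of_ringEquiv Θ.symm, ?_⟩
  obtain ⟨q, hq1, hq2, w, hwu, hwd, hw⟩ := CycNCDLib.exists_rad N α₁ v f₁ hf₁ hN (by simpa using (IsUnit.mk0 _ hNk).map (algebraMap k Γ(X, U))) A rfl
  have hmap : ∀ x, (Ideal.span ({x} : Set A)).comap Θ = Ideal.span {Θ.symm x} := fun x => by
    rw [← Ideal.map_symm, Ideal.map_span, Set.image_singleton]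
  refine ⟨Θ.symm q, ?_, ?_, Θ.symm w, (v : Γ(X, U)), hwu.map _, ?_, fun z => ?_⟩
  · rw [← hmap, ← Ideal.comap_radical, hq1]
  · rw [Ideal.span_singleton_pow, ← map_pow, ← hmap, ← Ideal.span_singleton_pow, hq2, hmap]
    congr 2
    rw [RingEquiv.symm_apply_eq]
    exact (hφ f₁).symm
  · rw [← map_pow, hwd, RingEquiv.symm_apply_eq]
    exact (hφ _).symm
  · obtain ⟨g, hg⟩ := hw (Θ z)
    refine ⟨g, ?_⟩
    have h := map_dvd Θ.symm hg
    rw [map_sub, RingEquiv.symm_apply_apply, aeval_def] at h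
    have e : Θ.symm (Polynomial.eval₂ (algebraMap Γ(X, U) A) w g) =
        Polynomial.eval₂ (π.app U).hom (Θ.symm w) g := by
      show Θ.symm.toRingHom _ = _
      rw [Polynomial.hom_eval₂]
      congr 1
      ext a
      show Θ.symm (algebraMap Γ(X, U) A a) = _
      rw [RingEquiv.symm_apply_eq]
      exact (hφ a).symm
    rwa [e] at h

end CycNCDLib
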