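import Groth.Agent.CycNCDLib.Chart
import Groth.Agent.CycNCDLib.Cover
import Groth.Agent.CycStrLib.Geom
import Groth.Agent.CycEtaleLib.Main
import Groth.Agent.FlatLib.SmoothSource
import Mathlib

/-!
# Normal crossings upstairs
-/

set_option autoImplicit false
set_option linter.all false
set_option backward.isDefEq.respectTransparency false

universe u

open CategoryTheory CategoryTheory.Limits AlgebraicGeometry TopologicalSpace Opposite

noncomputable section

namespace CycNCDLib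

/-- the Nakayama step for differentials -/
theorem exists_span_kaehler {k B C : Type u} [CommRing k] [CommRing B] [CommRing C] [Algebra k B] [Algebra k C]
    [Algebra.EssFiniteType k C]
    {σ : Type u} [Fintype σ] (φ : B →ₐ[k] C) (v : σ → B) (hv : Function.Surjective (diffMap k v))
    (i₀ : σ) (q w : C) (hw : IsUnit w) (d : ℕ) (hdpos : 0 < d) (hd : IsUnit (d : k)) (b : B) (hwd : w ^ d = φ b)
    (e : ℕ) (he : 0 < e) (a : C) (hae : φ (v i₀) = a * q ^ e)
    (hC : ∀ z : C, ∃ g : Polynomial B, q ∣ z - Polynomial.eval₂ φ.toRingHom w g)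
    (ω : σ → C) (hω₀ : ω i₀ = q) (hω : ∀ i, i ≠ i₀ → ω i = φ (v i)) :
    ∃ r : C, q ∣ r - 1 ∧ ∀ y : Ω[C⁄k], r • y ∈ LinearMap.range (diffMap k ω) := by
  classical
  let M := LinearMap.range (diffMap k ω)
  let I : Ideal C := Ideal.span {q}
  let N : Submodule C Ω[C⁄k] := M ⊔ I • ⊤
  have hω' : ∀ i, KaehlerDifferential.D k C (ω i) ∈ N := fun i =>
    Submodule.mem_sup_left ⟨Pi.single i 1, by simp [diffMap, Fintype.linearCombination_apply_single]⟩
  have hqm : ∀ y : Ω[C⁄k], q • y ∈ N := fun y =>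
    Submodule.mem_sup_right (Submodule.smul_mem_smul (Ideal.mem_span_singleton_self q) Submodule.mem_top)
  have hv' : ∀ i, KaehlerDifferential.D k C (φ (v i)) ∈ N := by
    intro i
    by_cases hi : i = i₀
    · subst hi
      rw [hae, Derivation.leibniz, Derivation.leibniz_pow]
      refine N.add_mem ?_ ?_
      · refine N.smul_mem _ (N.smul_of_tower_mem _ (N.smul_mem _ ?_))
        exact hω₀ ▸ hω' i
      · obtain ⟨m, rfl⟩ := Nat.exists_eq_succ_of_ne_zero he.ne'
        rw [pow_succ', mul_smul]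
        exact hqm _
    · exact hω i hi ▸ hω' i
  letI := φ.toRingHom.toAlgebra
  haveI : IsScalarTower k B C := IsScalarTower.of_algebraMap_eq fun x => (φ.commutes x).symm
  have hB : ∀ x : B, KaehlerDifferential.D k C (φ x) ∈ N := by
    intro x
    obtain ⟨c, hc⟩ := hv (KaehlerDifferential.D k B x)
    have h := congrArg (KaehlerDifferential.map k k B C) hc
    rw [KaehlerDifferential.map_D] at h
    simp only [diffMap, Fintype.linearCombination_apply, map_sum] at h
    rw [show φ x = algebraMap B C x from rfl, ← h]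
    refine sum_mem fun i _ => ?_
    rw [map_smul, KaehlerDifferential.map_D, ← algebraMap_smul C (c i)]
    exact N.smul_mem _ (hv' i)
  have hw' : KaehlerDifferential.D k C w ∈ N := by
    have h := hB b
    rw [← hwd, Derivation.leibniz_pow, ← Nat.cast_smul_eq_nsmul C, smul_smul] at h
    obtain ⟨u, hu⟩ := ((map_natCast (algebraMap k C) d) ▸ hd.map (algebraMap k C)).mul (hw.pow (d - 1))
    rw [← hu] at h
    exact (N.smul_mem_iff' u).1 h
  have hall : ∀ g : Polynomial B, KaehlerDifferential.D k C (Polynomial.eval₂ φ.toRingHom w g) ∈ N := by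
    intro g
    induction g using Polynomial.induction_on' with
    | add p p' hp hp' => rw [Polynomial.eval₂_add, map_add]; exact N.add_mem hp hp'
    | monomial m c =>
      rw [Polynomial.eval₂_monomial, Derivation.leibniz, Derivation.leibniz_pow]
      exact N.add_mem (N.smul_mem _ (N.smul_of_tower_mem _ (N.smul_mem _ hw'))) (N.smul_mem _ (hB c))
  have hN : (⊤ : Submodule C Ω[C⁄k]) ≤ N := by
    intro y _
    refine (Submodule.span_le.2 ?_ : Submodule.span C (Set.range (KaehlerDifferential.D k C)) ≤ N)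
      (KaehlerDifferential.span_range_derivation k C ▸ Submodule.mem_top)
    rintro _ ⟨z, rfl⟩
    obtain ⟨g, c, hc⟩ := hC z
    rw [sub_eq_iff_eq_add'] at hc
    show KaehlerDifferential.D k C z ∈ N
    rw [hc, map_add, Derivation.leibniz]
    exact N.add_mem (hall g) (N.add_mem (hqm _) (N.smul_mem _ (hω₀ ▸ hω' i₀)))
  obtain ⟨r, hr, hr'⟩ := Submodule.exists_sub_one_mem_and_smul_eq_zero_of_fg_of_le_smul I
    (⊤ : Submodule C (Ω[C⁄k] ⧸ M)) (Module.Finite.fg_top) (by
      intro z _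
      obtain ⟨z, rfl⟩ := M.mkQ_surjective z
      obtain ⟨m, hm, n, hn, rfl⟩ := Submodule.mem_sup.1 (hN (Submodule.mem_top : z ∈ ⊤))
      rw [map_add, show M.mkQ m = 0 from (Submodule.Quotient.mk_eq_zero _).2 hm, zero_add]
      have := Submodule.mem_map_of_mem (f := M.mkQ) hn
      rw [Submodule.map_smul''] at this
      exact Submodule.smul_mono (le_refl I) le_top this)
  refine ⟨r, Ideal.mem_span_singleton.1 hr, fun y => ?_⟩
  have := hr' (M.mkQ y) Submodule.mem_top
  rwa [← map_smul, Submodule.mkQ_apply, Submodule.Quotient.mk_eq_zero] at this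

variable {X Y : Scheme.{u}}

lemma appLE_eq (π : Y ⟶ X) {U : X.Opens} {V : Y.Opens} (h : V ≤ π ⁻¹ᵁ U) (a : Γ(X, U)) :
    π.appLE U V h a = Y.presheaf.map (homOfLE h).op (π.app U a) := rfl

lemma appLE_res (π : Y ⟶ X) {U U' : X.Opens} {V V' : Y.Opens} (hU : U ≤ U') (hV : V' ≤ V) (h : V ≤ π ⁻¹ᵁ U)
    (h' : V' ≤ π ⁻¹ᵁ U') (a : Γ(X, U')) :
    Y.presheaf.map (homOfLE hV).op (π.appLE U V h (X.presheaf.map (homOfLE hU).op a)) = π.appLE U' V' h' a :=
  ConcreteCategory.congr_hom (show X.presheaf.map (homOfLE hU).op ≫ π.appLE U V h ≫ Y.presheaf.map (homOfLE hV).op =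
    π.appLE U' V' h' by rw [Scheme.Hom.appLE_map, Scheme.Hom.map_appLE]) a

lemma app_res (π : Y ⟶ X) {U U' : X.Opens} (hU : U ≤ U') (h : π ⁻¹ᵁ U ≤ π ⁻¹ᵁ U') (a : Γ(X, U')) :
    π.app U (X.presheaf.map (homOfLE hU).op a) = π.appLE U' (π ⁻¹ᵁ U) h a := by
  rw [← CommRingCat.comp_apply, π.app_eq_appLE, Scheme.Hom.map_appLE]

lemma sectOn_topIso {W U : X.Opens} (h : U ≤ W) (a : Γ(X, W)) :
    LogNCD.sectOn W h (W.topIso.inv a) = X.presheaf.map (homOfLE h).op a := by
  rw [LogNCD.sectOn_apply, Iso.inv_hom_id_apply]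

variable {k : Type u} [Field k]

/-- pulling coordinates back along an etale piece of a morphism -/
theorem etale_pull (f : X ⟶ Spec (CommRingCat.of k)) (π : Y ⟶ X) {W D : X.Opens} {n : ℕ}
    (v : ULift.{u} (Fin n) → Γ(W, ⊤)) [Etale (AffineSpace.homOfVector (W.ι ≫ f) v)]
    (hD : D ≤ W) [Etale (π ∣_ D)] (V : Y.Opens) (hV : V ≤ π ⁻¹ᵁ D) :
    Etale (AffineSpace.homOfVector (V.ι ≫ π ≫ f)
      fun i => V.topIso.inv (π.appLE W V (hV.trans (π.preimage_mono hD)) (W.topIso.hom (v i)))) := by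
  let g : (V : Scheme) ⟶ (W : Scheme) := Y.homOfLE hV ≫ (π ∣_ D) ≫ X.homOfLE hD
  have hg : g ≫ W.ι = V.ι ≫ π := by simp [g]
  have e : AffineSpace.homOfVector (V.ι ≫ π ≫ f)
      (fun i => V.topIso.inv (π.appLE W V (hV.trans (π.preimage_mono hD)) (W.topIso.hom (v i)))) =
      g ≫ AffineSpace.homOfVector (W.ι ≫ f) v := by
    rw [AffineSpace.comp_homOfVector]
    congr 1
    · rw [← Category.assoc g, hg, Category.assoc]
    · funext i
      show V.topIso.inv (π.appLE W V _ (W.topIso.hom (v i))) = g.appTop (v i)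
      have h1 : W.topIso.hom ≫ π.appLE W V (hV.trans (π.preimage_mono hD)) ≫ V.topIso.inv = g.appTop := by
        have e₁ : (⊤ : (W : Scheme).Opens) ≤ W.ι ⁻¹ᵁ W := by rw [Scheme.Opens.ι_preimage_self]
        have e₂ : (⊤ : (V : Scheme).Opens) ≤ V.ι ⁻¹ᵁ V := by rw [Scheme.Opens.ι_preimage_self]
        have hW : W.topIso.inv = W.ι.appLE W ⊤ e₁ := by
          rw [Scheme.Opens.ι_appLE]; rfl
        have hV' : V.topIso.inv = V.ι.appLE V ⊤ e₂ := by
          rw [Scheme.Opens.ι_appLE]; rfl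
        rw [← Iso.eq_inv_comp, hW, hV', Scheme.Hom.appLE_comp_appLE]
        have : g.appTop = g.appLE ⊤ ⊤ le_top := (Scheme.Hom.app_eq_appLE g)
        rw [this, Scheme.Hom.appLE_comp_appLE]
        simp only [hg]
      exact ConcreteCategory.congr_hom h1 (v i)
  rw [e]
  infer_instance

/-- ideals on a smaller affine open -/
lemma ideal_res (I : Y.IdealSheafData) {V V' : Y.Opens} (hV : IsAffineOpen V) (hV' : IsAffineOpen V') (h : V' ≤ V) :
    I.ideal ⟨V', hV'⟩ = (I.ideal ⟨V, hV⟩).map (Y.presheaf.map (homOfLE h).op).hom :=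
  (I.map_ideal' (U := ⟨V', hV'⟩) (V := ⟨V, hV⟩) (homOfLE h).op).symm

lemma regular_of_localization {C T : Type u} [CommRing C] [CommRing T] [Algebra C T] (r : C)
    [IsLocalization.Away r T] {c : C} (hc : ∀ b : C, c * b = 0 → b = 0) :
    ∀ a : T, algebraMap C T c * a = 0 → a = 0 := by
  intro a ha
  obtain ⟨⟨b, s⟩, hb⟩ := IsLocalization.surj (Submonoid.powers r) a
  have h0 : algebraMap C T (c * b) = 0 := by rw [map_mul, ← hb, ← mul_assoc, ha, zero_mul]
  obtain ⟨⟨_, m, rfl⟩, hm⟩ := (IsLocalization.map_eq_zero_iff (Submonoid.powers r) T _).1 h0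
  have hb0 : r ^ m * b = 0 := hc _ (by rw [mul_left_comm]; exact hm)
  have : algebraMap C T b = 0 :=
    (IsLocalization.map_eq_zero_iff (Submonoid.powers r) T _).2 ⟨⟨_, m, rfl⟩, hb0⟩
  rw [this] at hb
  exact (IsLocalization.map_units T s).mul_left_eq_zero.1 hb

variable [IsAlgClosed k] (f : X ⟶ Spec (CommRingCat.of k)) [Smooth f] [IsIntegral X]
  {L : X.Modules} (hL : PicF.IsInvertible L) {N : ℕ} (hN : 0 < N) (hNk : (N : k) ≠ 0)
  {r : ℕ} {D : Fin r → X.IdealSheafData} {α : Fin r → ℕ} (hD : LogNCD.IsNCD D f)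
  {s : Coh.structureModule X ⟶ CohB1.tensorPow L N} (hs : CycCov.IsZeroDiv (CohB1.tensorPow L N) s (CycCov.divIdeal D α))
  {π : Y ⟶ X} {R : CycCov.Root L N s π} (hR : CycCov.IsCover R)
include hL hN hNk hD hs hR

theorem isNCD_radical_comap
    (hdisj : ∀ (x : X) (j j' : Fin r), 0 < α j → 0 < α j' → x ∈ (D j).support → x ∈ (D j').support → j = j') :
    LogNCD.IsNCD (fun j : Fin r => ((D j).comap π).radical) (π ≫ f) := by
  classical
  haveI : IsFinite π := hR.1
  intro y hy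
  have hsupp : ∀ j, y ∈ (((D j).comap π).radical).support ↔ π y ∈ (D j).support := fun j => by
    rw [Scheme.IdealSheafData.support_radical, Scheme.IdealSheafData.support_comap]
    rfl
  obtain ⟨⟨j₁, hj₁⟩⟩ := hy
  obtain ⟨W, hxW, n, v, ec, hinj, hv, hDv, hmiss⟩ := hD (π y) ⟨⟨j₁, (hsupp j₁).1 hj₁⟩⟩
  haveI := hv
  let a : ULift.{u} (Fin n) → Γ(X, W) := fun i => W.topIso.hom (v i)
  let ec' : LogNCD.Through (fun j : Fin r => ((D j).comap π).radical) y → Fin n :=
    fun i => ec ⟨i.1, (hsupp i.1).1 i.2⟩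
  have hec' : Function.Injective ec' := fun i i' h => Subtype.ext (congrArg Subtype.val (hinj h) :)
  suffices key : ∃ (V : Y.Opens) (hV : IsAffineOpen V) (_ : y ∈ V) (w : ULift.{u} (Fin n) → Γ(Y, V)),
      Etale (AffineSpace.homOfVector (V.ι ≫ π ≫ f) fun i => V.topIso.inv (w i)) ∧
      (∀ i : LogNCD.Through (fun j : Fin r => ((D j).comap π).radical) y,
        ((D i.1).comap π).radical.ideal ⟨V, hV⟩ = Ideal.span {w (ULift.up (ec' i))}) ∧
      π '' (V : Set Y) ⊆ (W : Set X) by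
    obtain ⟨V, hV, hyV, w, hw, hwD, hVW⟩ := key
    refine ⟨V, hyV, n, fun i => V.topIso.inv (w i), ec', hec', hw, fun i U h => ?_, fun i hi U h => ?_⟩
    · rw [ideal_res _ hV U.2 h, hwD, Ideal.map_span, Set.image_singleton, sectOn_topIso]
    · obtain ⟨T, hTW, hTy⟩ : ∃ T : X.Opens, T ≤ W ∧ U.1 ≤ π ⁻¹ᵁ T :=
        ⟨W, le_rfl, fun z hz => hVW ⟨z, h hz, rfl⟩⟩
      refine top_le_iff.1 fun z _ => ?_
      have hne : ∀ z ∈ U.1, z ∉ (((D i).comap π).radical).support := by
        intro z hz hzs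
        rw [Scheme.IdealSheafData.support_radical, Scheme.IdealSheafData.support_comap] at hzs
        obtain ⟨T', hT', hxT', hle⟩ := exists_isAffineOpen_mem_and_subset (U := W) (x := π z) (hTW (hTy hz))
        have htop := hmiss i (fun h' => hi ((hsupp i).2 h')) ⟨T', hT'⟩ hle
        have h2 : π z ∈ ((D i).support : Set X) ∩ (T' : Set X) := ⟨hzs, hxT'⟩
        rw [Scheme.IdealSheafData.coe_support_inter (D i) ⟨T', hT'⟩, htop] at h2
        simp at h2
      exact (CycStrLib.ideal_top_of_disjoint _ U.2 hne).ge trivial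
  by_cases hex : ∃ j₀, 0 < α j₀ ∧ π y ∈ (D j₀).support
  swap
  · -- the cover is etale near the point
    let O : X.Opens := ⟨(⋃ j ∈ (Finset.univ.filter fun j => 0 < α j), ((D j).support : Set X))ᶜ,
      (Set.Finite.isClosed_biUnion (Finset.finite_toSet _) fun j _ => (D j).support.isClosed).isOpen_compl⟩
    have hxO : π y ∈ O := fun h => by
      obtain ⟨j, hj, hxj⟩ := Set.mem_iUnion₂.1 h
      exact hex ⟨j, (Finset.mem_filter.1 hj).2, hxj⟩
    obtain ⟨U, hU, hxU, hUle⟩ := exists_isAffineOpen_mem_and_subset (U := W ⊓ O) (x := π y) ⟨hxW, hxO⟩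
    replace hUle : U ≤ W ⊓ O := hUle
    have hUW : U ≤ W := hUle.trans inf_le_left
    haveI : Etale (π ∣_ U) := CycEtaleLib.etale_restrict f L hL N hN hNk D α s hs π R hR U fun j hj =>
      Set.disjoint_left.2 fun z hz hzj => (hUle hz).2 (Set.mem_iUnion₂.2 ⟨j, Finset.mem_filter.2 ⟨Finset.mem_univ _, hj⟩, hzj⟩)
    let V : Y.Opens := π ⁻¹ᵁ U
    have hV : IsAffineOpen V := hU.preimage π
    haveI : Nonempty V := ⟨⟨y, hxU⟩⟩
    let w : ULift.{u} (Fin n) → Γ(Y, V) := fun i => π.appLE W V (π.preimage_mono hUW) (a i)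
    have hw : Etale (AffineSpace.homOfVector (V.ι ≫ π ≫ f) fun i => V.topIso.inv (w i)) :=
      etale_pull f π v hUW V le_rfl
    refine ⟨V, hV, hxU, w, hw, fun i => ?_, by rintro _ ⟨z, hz, rfl⟩; exact hUW hz⟩
    haveI := hw
    obtain ⟨hreg, -⟩ := CycStrLib.coord_props (π ≫ f) V n (fun i => V.topIso.inv (w i)) V hV le_rfl
      (ULift.up (ec' i))
    haveI := hreg
    rw [sectOn_topIso] at hreg
    have hid : Y.presheaf.map (homOfLE (le_refl V)).op (w (ULift.up (ec' i))) = w (ULift.up (ec' i)) := by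
      rw [show (homOfLE (le_refl V)).op = 𝟙 (op V) from rfl, Y.presheaf.map_id]; rfl
    rw [hid] at hreg
    haveI := hreg
    have hred : (Ideal.span {w (ULift.up (ec' i))}).radical = Ideal.span {w (ULift.up (ec' i))} :=
      Ideal.radical_eq_iff.2 ((Ideal.isRadical_iff_quotient_reduced _).2 (CycStrLib.isReduced_of_isRegularRing _))
    rw [Scheme.IdealSheafData.radical_ideal]
    show Ideal.radical _ = _
    rw [ChevLib.ideal_comap_of_isAffineHom (D i.1) π ⟨U, hU⟩, hDv ⟨i.1, (hsupp i.1).1 i.2⟩ ⟨U, hU⟩ hUW,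
      Ideal.map_span, Set.image_singleton, ← hred]
    congr 3
    exact app_res π hUW (π.preimage_mono hUW) (a _)
  -- the branched case
  obtain ⟨j₀, hα₀, hxj₀⟩ := hex
  let O : X.Opens := ⟨(⋃ j ∈ (Finset.univ.filter fun j => 0 < α j ∧ j ≠ j₀), ((D j).support : Set X))ᶜ,
    (Set.Finite.isClosed_biUnion (Finset.finite_toSet _) fun j _ => (D j).support.isClosed).isOpen_compl⟩
  have hxO : π y ∈ O := fun h => by
    obtain ⟨j, hj, hxj⟩ := Set.mem_iUnion₂.1 h
    exact (Finset.mem_filter.1 hj).2.2 (hdisj (π y) j j₀ (Finset.mem_filter.1 hj).2.1 hα₀ hxj hxj₀)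
  obtain ⟨T, e₀, hxT, he₀⟩ := TwistLib.exists_genOn hL (π y)
  obtain ⟨U, hU, hxU, hUle⟩ := exists_isAffineOpen_mem_and_subset (U := W ⊓ T ⊓ O) (x := π y) ⟨⟨hxW, hxT⟩, hxO⟩
  replace hUle : U ≤ W ⊓ T ⊓ O := hUle
  have hUW : U ≤ W := hUle.trans (inf_le_left.trans inf_le_left)
  haveI : Nonempty U := ⟨⟨π y, hxU⟩⟩
  let e := AmpleLib.res L (hUle.trans (inf_le_left.trans inf_le_right)) e₀
  have hge : AmpleLib.GenOn L e := he₀.res _
  let i₀ : ULift.{u} (Fin n) := ULift.up (ec ⟨j₀, hxj₀⟩)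
  let b : ULift.{u} (Fin n) → Γ(X, U) := fun i => LogNCD.sectOn W hUW (v i)
  let f₁ : Γ(X, U) := b i₀
  obtain ⟨hregq, hf₁⟩ := CycStrLib.coord_props f W n v U hU hUW i₀
  have hj₀ : (D j₀).ideal ⟨U, hU⟩ = Ideal.span {f₁} := hDv ⟨j₀, hxj₀⟩ ⟨U, hU⟩ hUW
  have hI : (CycCov.divIdeal D α).ideal ⟨U, hU⟩ = Ideal.span {f₁ ^ α j₀} := by
    rw [CycCov.divIdeal, CycStrLib.ideal_prod, Finset.prod_eq_single j₀]
    · rw [Scheme.IdealSheafData.ideal_pow, Pi.pow_apply, hj₀, Ideal.span_singleton_pow]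
    · intro j _ hjne
      rw [Scheme.IdealSheafData.ideal_pow, Pi.pow_apply]
      rcases Nat.eq_zero_or_pos (α j) with h0 | h0
      · rw [h0, pow_zero]
      · rw [CycStrLib.ideal_top_of_disjoint _ hU fun z hz hzj => (hUle hz).2
          (Set.mem_iUnion₂.2 ⟨j, Finset.mem_filter.2 ⟨Finset.mem_univ _, h0, hjne⟩, hzj⟩), ← Ideal.one_eq_top, one_pow]
    · exact fun h => absurd (Finset.mem_univ _) h
  obtain ⟨hCreg, q, hq1, hq2, wu, bb, hwu, hwd, hgen⟩ :=
    preimage_props f L N hN hNk (CycCov.divIdeal D α) s hs π R hR U hU e hge f₁ hf₁ (α j₀) hI hregq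
  haveI := hCreg
  set d := Nat.gcd N (α j₀) with hd
  have hdpos : 0 < d := Nat.gcd_pos_of_pos_left _ hN
  set m := N / d with hm
  have hmpos : 0 < m := Nat.div_pos (Nat.gcd_le_left _ hN) hdpos
  let P : Y.Opens := π ⁻¹ᵁ U
  have hP : IsAffineOpen P := hU.preimage π
  letI aP : Algebra k Γ(Y, P) := sAlg (π ≫ f) P
  letI aU : Algebra k Γ(X, U) := sAlg f U
  haveI : Algebra.FiniteType k Γ(Y, P) := by
    rw [← RingHom.finiteType_algebraMap]
    exact (LocallyOfFiniteType.finiteType_appLE (π ≫ f) (isAffineOpen_top _) hP le_top).comp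
      (RingHom.FiniteType.of_surjective _
        (ConcreteCategory.bijective_of_isIso (Scheme.ΓSpecIso (CommRingCat.of k)).inv).2)
  haveI : Algebra.Smooth k Γ(Y, P) := FlatLib.smooth_of_isRegularRing_of_perfectField k _
  let φ : Γ(X, U) →ₐ[k] Γ(Y, P) :=
    { (π.app U).hom with
      commutes' := fun c => by
        show π.app U (f.appLE ⊤ U le_top _) = (π ≫ f).appLE ⊤ P le_top _
        rw [← CommRingCat.comp_apply, π.app_eq_appLE, Scheme.Hom.appLE_comp_appLE] }
  -- differentials on the base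
  have hb : Etale (AffineSpace.homOfVector (U.ι ≫ f) fun i => U.topIso.inv (b i)) := by
    haveI : Etale (𝟙 X ∣_ U) := inferInstance
    have h := etale_pull f (𝟙 X) v hUW U (by simp)
    simp only [Category.id_comp] at h
    exact h
  rw [etale_homOfVector_iff f U hU b] at hb
  obtain ⟨a', ha'⟩ : ∃ a' : Γ(Y, P), π.app U f₁ = a' * q ^ m := by
    have h : π.app U f₁ ∈ Ideal.span ({q} : Set Γ(Y, P)) ^ m := by
      rw [hq2]; exact Ideal.mem_span_singleton_self _
    rw [Ideal.span_singleton_pow, Ideal.mem_span_singleton'] at h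
    exact h.imp fun _ => Eq.symm
  let ω : ULift.{u} (Fin n) → Γ(Y, P) := fun i => if i = i₀ then q else φ (b i)
  have hdk : IsUnit (d : k) := by
    refine IsUnit.mk0 _ fun h => hNk ?_
    rw [← Nat.div_mul_cancel (Nat.gcd_dvd_left N (α j₀)), Nat.cast_mul, ← hd, h, mul_zero]
  obtain ⟨g, hqg, hspan⟩ := exists_span_kaehler φ b (bijective_of_etale b hb).2 i₀ q wu hwu d hdpos hdk bb hwd m hmpos
    a' ha' hgen ω (if_pos rfl) (fun i hi => if_neg hi)
  let V : Y.Opens := Y.basicOpen g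
  have hV : IsAffineOpen V := hP.basicOpen g
  have hVP : V ≤ P := Y.basicOpen_le g
  let rP : Γ(Y, P) →+* Γ(Y, V) := (Y.presheaf.map (homOfLE hVP).op).hom
  letI aPV : Algebra Γ(Y, P) Γ(Y, V) := rP.toAlgebra
  haveI : IsLocalization.Away g Γ(Y, V) := hP.isLocalization_basicOpen g
  letI aV : Algebra k Γ(Y, V) := sAlg (π ≫ f) V
  haveI : IsScalarTower k Γ(Y, P) Γ(Y, V) := IsScalarTower.of_algebraMap_eq fun c => by
    show (π ≫ f).appLE ⊤ V le_top _ = Y.presheaf.map _ ((π ≫ f).appLE ⊤ P le_top _)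
    rw [← CommRingCat.comp_apply, Scheme.Hom.appLE_map]
  haveI : Algebra.Smooth k Γ(Y, V) := by
    haveI : Algebra.FinitePresentation Γ(Y, P) Γ(Y, V) := IsLocalization.Away.finitePresentation g
    haveI : Algebra.FormallySmooth Γ(Y, P) Γ(Y, V) := Algebra.FormallySmooth.of_isLocalization (Submonoid.powers g)
    haveI : Algebra.Smooth Γ(Y, P) Γ(Y, V) := ⟨inferInstance, inferInstance⟩
    exact Algebra.Smooth.comp k Γ(Y, P) Γ(Y, V)
  -- the point lies in the open
  have hqy : ¬ IsUnit (Y.presheaf.germ P y hxU q) := by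
    intro hu
    have h1 : IsUnit (Y.presheaf.germ P y hxU (π.app U f₁)) := by
      obtain ⟨c, hc⟩ : ∃ c : Γ(Y, P), q ^ m = c * π.app U f₁ := by
        have h : q ^ m ∈ Ideal.span ({π.app U f₁} : Set Γ(Y, P)) := hq2 ▸ Ideal.pow_mem_pow (Ideal.mem_span_singleton_self q) m
        rw [Ideal.mem_span_singleton'] at h
        exact h.imp fun _ => Eq.symm
      have := hu.pow m
      rw [← map_pow, hc, map_mul] at this
      exact isUnit_of_mul_isUnit_right this
    have h2 : y ∈ Y.basicOpen (π.app U f₁) := (Y.mem_basicOpen _ _ hxU).2 h1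
    rw [← Scheme.preimage_basicOpen] at h2
    have h3 : π y ∈ ((D j₀).support : Set X) ∩ (U : Set X) := ⟨hxj₀, hxU⟩
    rw [Scheme.IdealSheafData.coe_support_inter (D j₀) ⟨U, hU⟩, hj₀] at h3
    exact (X.mem_zeroLocus_iff _ _).1 h3.1 f₁ (Ideal.mem_span_singleton_self _) h2
  have hyV : y ∈ V := by
    refine (Y.mem_basicOpen _ _ hxU).2 ?_
    obtain ⟨c, hc⟩ := hqg
    have e1 : g = q * c + 1 := by rw [← hc]; ring
    have h1 : ¬ IsUnit (Y.presheaf.germ P y hxU (q * c)) := by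
      rw [map_mul]; exact fun h => hqy (isUnit_of_mul_isUnit_left h)
    by_contra hgu
    have := IsLocalRing.nonunits_add hgu (show Y.presheaf.germ P y hxU (-(q * c)) ∈ nonunits _ by
      rw [map_neg]; exact fun h => h1 (by simpa using h))
    rw [← map_add, e1, show q * c + 1 + -(q * c) = 1 by ring, map_one] at this
    exact this isUnit_one
  haveI : Nonempty V := ⟨⟨y, hyV⟩⟩
  let w : ULift.{u} (Fin n) → Γ(Y, V) := fun i => rP (ω i)
  have hsu : Function.Surjective (diffMap k w) := fun z => by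
    let ι : Ω[Γ(Y, P)⁄k] →ₗ[Γ(Y, P)] Ω[Γ(Y, V)⁄k] := KaehlerDifferential.map k k Γ(Y, P) Γ(Y, V)
    haveI : IsLocalizedModule (Submonoid.powers g) ι :=
      KaehlerDifferential.isLocalizedModule_map k Γ(Y, P) Γ(Y, V) (Submonoid.powers g)
    obtain ⟨⟨x, t⟩, hx⟩ := IsLocalizedModule.surj (Submonoid.powers g) ι z
    obtain ⟨c, hc⟩ := hspan x
    obtain ⟨u', hu'⟩ := ((IsLocalization.Away.algebraMap_isUnit g : IsUnit (algebraMap Γ(Y, P) Γ(Y, V) g))).mul
      (IsLocalization.map_units Γ(Y, V) t)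
    refine ⟨(↑u'⁻¹ : Γ(Y, V)) • fun i => algebraMap Γ(Y, P) Γ(Y, V) (c i), ?_⟩
    have h1 : diffMap k w (fun i => algebraMap Γ(Y, P) Γ(Y, V) (c i)) = ι (diffMap k ω c) := by
      simp [diffMap, w, ι, rP, Fintype.linearCombination_apply, map_sum, algebraMap_smul, RingHom.algebraMap_toAlgebra]
      exact Finset.sum_congr rfl fun i _ => algebraMap_smul _ (c i) _
    rw [map_smul, h1, hc, map_smul, show ι x = (t : Γ(Y, P)) • z from hx.symm, smul_smul,
      ← algebraMap_smul Γ(Y, V) (g * (t : Γ(Y, P))) z, map_mul, ← hu', smul_smul, Units.inv_mul, one_smul]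
  -- comparison away from the branch divisor
  let f' : Γ(Y, V) := rP (π.app U f₁)
  have hreg' : ∀ c : Γ(Y, V), f' * c = 0 → c = 0 := by
    obtain ⟨c, hc⟩ := (CycStrLib.genN_bijective hge N).2 (SecTwist.val s U)
    exact regular_of_localization (T := Γ(Y, V)) g (CycStrLib.app_regular hN hR U hU e hge c hc.symm f₁ hf₁)
  let V' : Y.Opens := Y.basicOpen f'
  have hV'V : V' ≤ V := Y.basicOpen_le f'
  have hV' : IsAffineOpen V' := hV.basicOpen f'
  let D₁ : X.Opens := X.basicOpen f₁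
  have hD₁U : D₁ ≤ U := X.basicOpen_le f₁
  have hV'D : V' ≤ π ⁻¹ᵁ D₁ := by
    rw [Scheme.preimage_basicOpen]
    show Y.basicOpen (Y.presheaf.map (homOfLE hVP).op (π.app U f₁)) ≤ _
    rw [Scheme.basicOpen_res]
    exact inf_le_right
  haveI : Etale (π ∣_ D₁) := CycEtaleLib.etale_restrict f L hL N hN hNk D α s hs π R hR D₁ fun j hj =>
    Set.disjoint_left.2 fun z hz hzj => by
      by_cases hjj : j = j₀
      · subst hjj
        have h3 : z ∈ ((D j).support : Set X) ∩ (U : Set X) := ⟨hzj, hD₁U hz⟩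
        rw [Scheme.IdealSheafData.coe_support_inter (D j) ⟨U, hU⟩, hj₀] at h3
        exact (X.mem_zeroLocus_iff _ _).1 h3.1 f₁ (Ideal.mem_span_singleton_self _) hz
      · exact (hUle (hD₁U hz)).2 (Set.mem_iUnion₂.2 ⟨j, Finset.mem_filter.2 ⟨Finset.mem_univ _, hj, hjj⟩, hzj⟩)
  let rV : Γ(Y, V) →+* Γ(Y, V') := (Y.presheaf.map (homOfLE hV'V).op).hom
  letI aVV : Algebra Γ(Y, V) Γ(Y, V') := rV.toAlgebra
  haveI : IsLocalization.Away f' Γ(Y, V') := hV.isLocalization_basicOpen f'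
  letI aV' : Algebra k Γ(Y, V') := sAlg (π ≫ f) V'
  haveI : IsScalarTower k Γ(Y, V) Γ(Y, V') := IsScalarTower.of_algebraMap_eq fun c => by
    show (π ≫ f).appLE ⊤ V' le_top _ = Y.presheaf.map _ ((π ≫ f).appLE ⊤ V le_top _)
    rw [← CommRingCat.comp_apply, Scheme.Hom.appLE_map]
  have hv' := (etale_homOfVector_iff (π ≫ f) V' hV'
    (fun i => π.appLE W V' (hV'D.trans (π.preimage_mono (hD₁U.trans hUW))) (a i))).1
    (etale_pull f π v (hD₁U.trans hUW) V' hV'D)
  have hinj' := injective_of_span f' hreg' w hsu _ (bijective_of_etale _ hv')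
  have hw : Etale (AffineSpace.homOfVector (V.ι ≫ π ≫ f) fun i => V.topIso.inv (w i)) :=
    (etale_homOfVector_iff (π ≫ f) V hV w).2 (etale_of_bijective w ⟨hinj', hsu⟩)
  haveI := hw
  refine ⟨V, hV, hyV, w, hw, fun i => ?_, by rintro _ ⟨z, hz, rfl⟩; exact hUW (hVP hz)⟩
  rw [ideal_res _ hP hV hVP, Scheme.IdealSheafData.radical_ideal]
  show Ideal.map rP (Ideal.radical _) = _
  by_cases hij : i.1 = j₀
  · have hω : ω (ULift.up (ec' i)) = q := if_pos (congrArg (fun t => ULift.up (ec t)) (Subtype.ext hij))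
    rw [hij, ChevLib.ideal_comap_of_isAffineHom (D j₀) π ⟨U, hU⟩, hj₀, Ideal.map_span, Set.image_singleton]
    show Ideal.map rP (Ideal.span {π.app U f₁}).radical = _
    rw [← hq2, Ideal.radical_pow _ hmpos.ne', hq1, Ideal.map_span, Set.image_singleton]
    show Ideal.span {rP q} = Ideal.span {rP (ω _)}
    rw [hω]
  · have hne : ULift.up (ec' i) ≠ i₀ := fun h => hij (congrArg Subtype.val (hinj (ULift.up_injective h)) :)
    obtain ⟨hreg, -⟩ := CycStrLib.coord_props (π ≫ f) V n (fun i => V.topIso.inv (w i)) V hV le_rfl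
      (ULift.up (ec' i))
    rw [sectOn_topIso] at hreg
    have hid : Y.presheaf.map (homOfLE (le_refl V)).op (w (ULift.up (ec' i))) = w (ULift.up (ec' i)) := by
      rw [show (homOfLE (le_refl V)).op = 𝟙 (op V) from rfl, Y.presheaf.map_id]; rfl
    rw [hid] at hreg
    haveI := hreg
    have hred : (Ideal.span {w (ULift.up (ec' i))}).radical = Ideal.span {w (ULift.up (ec' i))} :=
      Ideal.radical_eq_iff.2 ((Ideal.isRadical_iff_quotient_reduced _).2 (CycStrLib.isReduced_of_isRegularRing _))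
    rw [ChevLib.ideal_comap_of_isAffineHom (D i.1) π ⟨U, hU⟩, hDv ⟨i.1, (hsupp i.1).1 i.2⟩ ⟨U, hU⟩ hUW,
      Ideal.map_span, Set.image_singleton]
    show Ideal.map rP (Ideal.span {π.app U (b (ULift.up (ec' i)))}).radical = _
    refine le_antisymm ?_ ?_
    · refine (Ideal.map_radical_le _).trans ?_
      rw [Ideal.map_span, Set.image_singleton, show rP (π.app U (b (ULift.up (ec' i)))) = w (ULift.up (ec' i)) from
        congrArg rP (if_neg hne).symm, hred]
    · refine le_of_eq_of_le ?_ (Ideal.map_mono Ideal.le_radical)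
      rw [Ideal.map_span, Set.image_singleton]
      exact congrArg (fun t => Ideal.span {t}) (congrArg rP (if_neg hne))

end CycNCDLib
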