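import Groth.Agent.CycStrLib.Alg
import Groth.Agent.RichLib.CycCover.Main
import Groth.Agent.EtShLib.Kummer
import Groth.Agent.CohenLib.RegularField

/-!
# The radical of the branch divisor in the normalised cyclic cover
-/

set_option autoImplicit false
set_option linter.style.haveILetI false
universe u

open Polynomial RichLib.CycCover

noncomputable section

namespace CycNCDLib
open CycStrLib
variable {B : Type u} [CommRing B]

theorem exists_rad [IsDomain B] (N α : ℕ) (v : Bˣ) (f : B) (hf : f ≠ 0) (hN : 0 < N) (hNu : IsUnit (N : B))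
    [IsRegularRing (B ⧸ Ideal.span ({f} : Set B))]
    (A : Subalgebra B (KK N α v f)) (hA : A = Algebra.adjoin B (Set.range (Egen N α v f))) :
    ∃ π : A, (Ideal.span ({π} : Set A)).radical = Ideal.span {π} ∧
      Ideal.span ({π} : Set A) ^ (N / Nat.gcd N α) = Ideal.span {algebraMap B A f} ∧
      ∃ w : A, IsUnit w ∧ w ^ Nat.gcd N α = algebraMap B A v ∧ ∀ x : A, ∃ g : B[X], π ∣ x - aeval w g := by
  classical
  have hmem : ∀ y, y ∈ A ↔ y ∈ MM N α v f := fun y => by
    rw [hA, ← adjoin_eq N α v f hN]; rfl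
  let el : ∀ (a b e : ℕ), b * N ≤ a * α + e * N → A := fun a b e h =>
    ⟨Mon N α v f a b e, (hmem _).2 (Mon_mem N α v f hN h)⟩
  have hdvdA : ∀ {a₁ b₁ e₁ a₂ b₂ e₂ : ℕ} {h₁ : b₁ * N ≤ a₁ * α + e₁ * N} {h₂ : b₂ * N ≤ a₂ * α + e₂ * N},
      a₂ * α + e₂ * N + b₁ * N ≤ a₁ * α + e₁ * N + b₂ * N → el a₂ b₂ e₂ h₂ ∣ el a₁ b₁ e₁ h₁ := by
    intro a₁ b₁ e₁ a₂ b₂ e₂ h₁ h₂ h
    obtain ⟨w, hw, heq⟩ := Mon_dvd N α v f hN h
    exact ⟨⟨w, (hmem _).2 hw⟩, Subtype.ext heq⟩
  set d := Nat.gcd N α with hd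
  have hd0 : 0 < d := Nat.gcd_pos_of_pos_left _ hN
  obtain ⟨N', hN'⟩ := Nat.gcd_dvd_left N α
  obtain ⟨α', hα'⟩ := Nat.gcd_dvd_right N α
  rw [← hd] at hN' hα'
  have hN'0 : 0 < N' := by
    rcases Nat.eq_zero_or_pos N' with h | h
    · rw [h, mul_zero] at hN'; omega
    · exact h
  obtain ⟨a, b, e, habe⟩ := exists_pi N α hN
  rw [← hd] at habe
  have hπv : b * N ≤ a * α + e * N := by omega
  let π : A := el a b e hπv
  have hvv : α' * N ≤ N' * α + 0 * N := by rw [hN', hα']; exact le_of_eq (by ring)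
  let w : A := el N' α' 0 hvv
  have hwd : w ^ d = algebraMap B A v := by
    refine Subtype.ext ?_
    show Mon N α v f N' α' 0 ^ d = algebraMap B (KK N α v f) v
    rw [Mon_pow, zero_mul, show N' * d = 0 + 1 * N by rw [hN']; ring, Mon_add_mul_N, pow_one, zero_add, one_mul,
      Mon_congr N α v f (a := 0) (b' := 0) (e' := 0) (by rw [hα']; ring), Mon_zero, mul_one]
  have hwu : IsUnit w := (isUnit_pow_iff hd0.ne').1 (hwd ▸ v.isUnit.map _)
  let p : B[X] := X ^ d - C (v : B)
  have hpm : p.Monic := monic_X_pow_sub_C _ hd0.ne'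
  have hdu : IsUnit (d : B) := by
    rw [hN', Nat.cast_mul] at hNu; exact isUnit_of_mul_isUnit_left hNu
  have hsep : p.Separable := separable_X_pow_sub_C_unit v hdu
  let ψ : AdjoinRoot p →ₐ[B] A :=
    AdjoinRoot.liftAlgHom _ (Algebra.ofId B A) w (by
      rw [eval₂_sub, eval₂_X_pow, eval₂_C, sub_eq_zero]
      exact hwd)
  have hψ : ψ (AdjoinRoot.root _) = w := AdjoinRoot.liftAlgHom_root ..
  have hπpow : π ^ N' = w ^ a * algebraMap B A f := by
    refine Subtype.ext ?_
    show Mon N α v f a b e ^ N' = Mon N α v f N' α' 0 ^ a * algebraMap B (KK N α v f) f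
    rw [show algebraMap B (KK N α v f) f = Mon N α v f 0 0 1 from by simp [Mon], Mon_pow, Mon_pow, Mon_mul,
      mul_comm N' a, add_zero]
    refine Mon_congr N α v f (Nat.eq_of_mul_eq_mul_left hd0 ?_)
    rw [hN', hα'] at habe
    calc d * (e * N' + (α' * a + 0)) = a * (d * α') + e * (d * N') := by ring
      _ = d + b * (d * N') := habe
      _ = d * (0 * a + 1 + b * N') := by ring
  have hdec : ∀ y ∈ MM N α v f, ∃ (s : AdjoinRoot p) (c : A),
      y = ((ψ s + π * c : A) : KK N α v f) := by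
    intro y hy
    induction hy using Submodule.span_induction with
    | mem y hy =>
      obtain ⟨i, rfl⟩ := hy
      set k := (i : ℕ) * α / N with hk
      have hki : k * N ≤ i * α := Nat.div_mul_le_self _ _
      rcases hki.eq_or_lt with heq | hlt
      · obtain ⟨j, hj⟩ : N' ∣ (i : ℕ) := by
          have hco : Nat.Coprime N' α' := by
            have h1 := Nat.coprime_div_gcd_div_gcd (m := N) (n := α) hd0
            rw [← hd] at h1
            rwa [hN', hα', Nat.mul_div_cancel_left _ hd0, Nat.mul_div_cancel_left _ hd0] at h1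
          refine hco.dvd_of_dvd_mul_right ⟨k, Nat.eq_of_mul_eq_mul_left hd0 ?_⟩
          have e3 : k * (d * N') = (i : ℕ) * (d * α') :=
            (congrArg (k * ·) hN'.symm).trans (heq.trans (congrArg ((i : ℕ) * ·) hα'))
          linarith
        refine ⟨AdjoinRoot.root _ ^ j, 0, ?_⟩
        rw [mul_zero, add_zero, map_pow, hψ]
        have hkj : k = α' * j := by
          refine Nat.eq_of_mul_eq_mul_right hN ?_
          rw [heq, hj, hN', hα']; ring
        show Mon N α v f i k 0 = Mon N α v f N' α' 0 ^ j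
        rw [Mon_pow, zero_mul, hj, hkj]
      · have h1 : π ∣ (el i k 0 (by omega) : A) := by
          refine hdvdA (h₁ := by omega) (h₂ := hπv) ?_
          obtain ⟨c, hc⟩ : d ∣ (i : ℕ) * α - k * N :=
            Nat.dvd_sub ((Nat.gcd_dvd_right N α).mul_left _) ((Nat.gcd_dvd_left N α).mul_left _)
          have hc0 : 1 ≤ c := by
            rcases Nat.eq_zero_or_pos c with h | h
            · rw [h, mul_zero] at hc; omega
            · exact h
          have : d ≤ d * c := Nat.le_mul_of_pos_right d hc0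
          omega
        obtain ⟨c, hc⟩ := h1
        exact ⟨0, c, by rw [map_zero, zero_add, ← hc]⟩
    | zero => exact ⟨0, 0, by simp⟩
    | add y y' _ _ h h' =>
      obtain ⟨s, c, rfl⟩ := h
      obtain ⟨s', c', rfl⟩ := h'
      exact ⟨s + s', c + c', by rw [← Subalgebra.coe_add]; congr 1; rw [map_add]; ring⟩
    | smul r y _ h =>
      obtain ⟨s, c, rfl⟩ := h
      exact ⟨r • s, r • c, by rw [← Subalgebra.coe_smul, map_smul, smul_add, mul_smul_comm]⟩
  -- contraction of the divisor of `f`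
  have hcontr : ∀ (s : AdjoinRoot p) (z : A), ψ s = algebraMap B A f * z → algebraMap B _ f ∣ s := by
    intro s z hsz
    obtain ⟨g, rfl⟩ := AdjoinRoot.mk_surjective s
    rw [show AdjoinRoot.mk p g = AdjoinRoot.mk p (g %ₘ p) from AdjoinRoot.mk_eq_mk.2
      ⟨g /ₘ p, by linear_combination -(Polynomial.modByMonic_add_div g p)⟩] at hsz ⊢
    have hdeg : (g %ₘ p).natDegree < d := by
      rcases eq_or_ne (g %ₘ p) 0 with h0 | h0
      · rw [h0, natDegree_zero]; exact hd0
      · have := natDegree_lt_natDegree h0 (degree_modByMonic_lt g hpm)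
        rwa [natDegree_X_pow_sub_C] at this
    set r := g %ₘ p with hr
    obtain ⟨zc, hzc⟩ := (Submodule.mem_span_range_iff_exists_fun B).1 ((hmem _).1 z.2)
    let ι : Fin d → Fin N := fun l => ⟨N' * l, by
      calc N' * (l : ℕ) < N' * d := Nat.mul_lt_mul_of_pos_left l.2 hN'0
        _ = N := by rw [hN']; ring⟩
    have hι : Function.Injective ι := fun x y h => Fin.ext
      (Nat.eq_of_mul_eq_mul_left hN'0 (congrArg Fin.val h))
    have hEι : ∀ l : Fin d, Egen N α v f (ι l) = (w : KK N α v f) ^ (l : ℕ) := fun l => by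
      show Mon N α v f (N' * l) (N' * l * α / N) 0 = Mon N α v f N' α' 0 ^ (l : ℕ)
      rw [Mon_pow, zero_mul]
      congr 1
      refine Nat.div_eq_of_eq_mul_left hN ?_
      rw [hN', hα']; ring
    let rc : Fin N → B := Function.extend ι (fun l => r.coeff l) 0
    have h1 : (ψ (AdjoinRoot.mk p r) : KK N α v f) = ∑ i, rc i • Egen N α v f i := by
      rw [← AdjoinRoot.aeval_eq, ← Polynomial.aeval_algHom_apply, hψ,
        Polynomial.aeval_eq_sum_range' hdeg, Finset.sum_range]
      rw [AddSubmonoidClass.coe_finset_sum]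
      rw [← Finset.sum_subset (Finset.subset_univ (Finset.univ.image ι)), Finset.sum_image fun x _ y _ h => hι h]
      · refine Finset.sum_congr rfl fun l _ => ?_
        rw [hEι, show rc (ι l) = r.coeff l from hι.extend_apply _ _ l, Subalgebra.coe_smul, SubmonoidClass.coe_pow]
      · intro i _ hi
        rw [show rc i = 0 from Function.extend_apply' _ _ _ (by
          rintro ⟨l, rfl⟩; exact hi (Finset.mem_image_of_mem _ (Finset.mem_univ _))), zero_smul]
    have h2 : ∑ i, (rc i - f * zc i) • Egen N α v f i = 0 := by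
      simp only [sub_smul, Finset.sum_sub_distrib, ← h1, mul_smul, ← Finset.smul_sum, hzc]
      rw [hsz, sub_eq_zero, Algebra.smul_def]
      rfl
    have h3 := Fintype.linearIndependent_iff.1 (linearIndependent_Egen N α v f hf hN) _ h2
    have h4 : C f ∣ r := by
      rw [Polynomial.C_dvd_iff_dvd_coeff]
      intro l
      rcases lt_or_ge l d with hl | hl
      · refine ⟨zc (ι ⟨l, hl⟩), ?_⟩
        have := sub_eq_zero.1 (h3 (ι ⟨l, hl⟩))
        rwa [show rc (ι ⟨l, hl⟩) = r.coeff l from hι.extend_apply _ _ ⟨l, hl⟩] at this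
      · rw [coeff_eq_zero_of_natDegree_lt (hdeg.trans_le hl)]; exact dvd_zero _
    have h5 := map_dvd (AdjoinRoot.mk p) h4
    rwa [AdjoinRoot.mk_C, ← AdjoinRoot.algebraMap_eq] at h5
  have hfπ : π ∣ algebraMap B A f := by
    obtain ⟨u, hu⟩ := (hwu.pow a).exists_left_inv
    exact (dvd_pow_self π hN'0.ne').trans ⟨u, by rw [hπpow]; linear_combination -(algebraMap B A f) * hu⟩
  refine ⟨π, ?_, ?_, w, hwu, hwd, fun x => ?_⟩
  · refine le_antisymm (fun x hx => ?_) Ideal.le_radical
    obtain ⟨n, hn⟩ := hx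
    rw [Ideal.mem_span_singleton] at hn ⊢
    obtain ⟨s, c, hsc⟩ := hdec x ((hmem _).1 x.2)
    have hx' : x = ψ s + π * c := Subtype.ext hsc
    have hs : π ∣ ψ s ^ n := by
      rw [show ψ s = x - π * c by rw [hx']; ring]
      obtain ⟨t, ht⟩ := sub_dvd_pow_sub_pow (x - π * c) x n
      obtain ⟨t', ht'⟩ := hn
      exact ⟨t' - c * t, by linear_combination ht + ht'⟩
    obtain ⟨z, hz⟩ := pow_dvd_pow_of_dvd hs N'
    have h1 : algebraMap B _ f ∣ s := by
      refine dvd_of_dvd_pow_adjoinRoot f p hpm hsep (n := n * N') (hcontr _ (w ^ a * z) ?_)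
      rw [map_pow, pow_mul, hz, hπpow]; ring
    obtain ⟨s', rfl⟩ := h1
    rw [hx', map_mul, AlgHom.commutes]
    exact dvd_add (hfπ.trans (dvd_mul_right _ _)) (dvd_mul_right _ _)
  · rw [show N / d = N' by rw [hN', Nat.mul_div_cancel_left _ hd0], Ideal.span_singleton_pow, hπpow]
    exact Ideal.span_singleton_mul_left_unit (hwu.pow a) _
  · obtain ⟨s, c, hsc⟩ := hdec x ((hmem _).1 x.2)
    obtain ⟨g, rfl⟩ := AdjoinRoot.mk_surjective s
    have hx' : x = ψ (AdjoinRoot.mk p g) + π * c := Subtype.ext hsc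
    refine ⟨g, c, ?_⟩
    rw [hx', ← AdjoinRoot.aeval_eq, ← Polynomial.aeval_algHom_apply, hψ]
    ring

end CycNCDLib
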